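import Groth.Agent.Lib.AbelGrp20.Preadd
import Groth.Agent.Lib.QuotField20.Normal
import Groth.Agent.S3036
import Groth.Agent.S3278
import Groth.Agent.Lib.GrpDim20.Basic
import Mathlib.CategoryTheory.Abelian.Basic
import Mathlib.CategoryTheory.Preadditive.Biproducts
import Mathlib.CategoryTheory.Limits.Constructions.FiniteProductsOfBinaryProducts

/-!
# Commutative algebraic groups over a field form an abelian category
-/

universe u

set_option autoImplicit false
set_option linter.style.haveILetI false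
set_option backward.isDefEq.respectTransparency.types false

open CategoryTheory CategoryTheory.Limits MonoidalCategory CartesianMonoidalCategory MonObj AlgebraicGeometry
open scoped GrpObj

noncomputable section

namespace Groth.Agent.AbelGrp20

open QuotField20

section Gen

variable {S : Scheme.{u}} {K A Q : Over S} [GrpObj K] [GrpObj A] [GrpObj Q]

theorem isCommMonObj_of_epi [IsCommMonObj A] (q : A ⟶ Q) [IsMonHom q] (hq : IsFppf q) : IsCommMonObj Q := by
  haveI := ((hq.whiskerRight A).comp (.of_isPullback_left (isPullback_whiskerLeft_left Q q) hq)).epi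
  constructor
  have e : (q ▷ A) ≫ (Q ◁ q) = (q ⊗ₘ q) := by
    rw [MonoidalCategory.tensorHom_def]
  rw [← cancel_epi ((q ▷ A) ≫ (Q ◁ q)), e]
  rw [BraidedCategory.braiding_naturality_assoc, ← IsMonHom.mul_hom, IsCommMonObj.mul_comm_assoc]

theorem isCommMonObj_of_mono [IsCommMonObj A] (i : K ⟶ A) [IsMonHom i] [Mono i] : IsCommMonObj K := by
  constructor
  rw [← cancel_mono i, Category.assoc, IsMonHom.mul_hom, ← BraidedCategory.braiding_naturality_assoc,
    IsCommMonObj.mul_comm]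

theorem isNormalHom_of_comm [IsCommMonObj A] (i : K ⟶ A) [IsMonHom i] : AlgGrp.IsNormalHom i :=
  fun T g n => ⟨n, by
    letI : CommGroup (T ⟶ A) := Hom.commGroup
    rw [mul_comm g, mul_inv_cancel_right]⟩

end Gen

/-- The pullback square from the kernel relation. -/
theorem isPullback_of_kernel {S : Scheme.{u}} {F G X : Over S} [GrpObj F] [GrpObj G] (u : F ⟶ G) [IsMonHom u]
    {p : G ⟶ X} [Mono u]
    (h : ∀ {Z : Over S} (z z' : Z ⟶ G), z ≫ p = z' ≫ p ↔ ∃ f : Z ⟶ F, (f ≫ u) * z = z') :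
    IsPullback (QuotFlat20.leftAction u).act (snd F G) p p := by
  have key : ∀ {Z : Over S} (w : Z ⟶ F ⊗ G),
      w ≫ (QuotFlat20.leftAction u).act = ((w ≫ fst F G) ≫ u) * (w ≫ snd F G) := fun w => by
    rw [← lift_leftAction, ← comp_lift, lift_fst_snd, Category.comp_id]
  have w : (QuotFlat20.leftAction u).act ≫ p = snd F G ≫ p := by
    refine ((h (snd F G) _).2 ⟨fst F G, ?_⟩).symm
    have e := key (𝟙 (F ⊗ G))
    simp only [Category.id_comp] at e
    exact e.symm
  refine ⟨⟨w⟩, ⟨PullbackCone.IsLimit.mk _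
    (fun s => lift ((h s.snd s.fst).1 s.condition.symm).choose s.snd) (fun s => ?_)
    (fun s => lift_snd _ _) fun s m h1 h2 => ?_⟩⟩
  · rw [key, lift_fst, lift_snd]
    exact ((h s.snd s.fst).1 s.condition.symm).choose_spec
  · rw [key, h2] at h1
    apply CartesianMonoidalCategory.hom_ext
    · rw [lift_fst, ← cancel_mono u]
      exact mul_right_cancel (h1.trans ((h s.snd s.fst).1 s.condition.symm).choose_spec.symm)
    · rw [lift_snd, h2]

variable {k : Type u} [Field k]

variable {b : Prop}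

/-- Commutative algebraic groups, required to be affine when `b` holds. -/
abbrev IsAlg (b : Prop) : ObjectProperty (CommGrp (Over (Spec (CommRingCat.of k)))) :=
  fun G => LocallyOfFiniteType G.X.hom ∧ QuasiCompact G.X.hom ∧ (b → IsAffine G.X.left)

/-- The category of commutative algebraic groups. -/
abbrev Alg (k : Type u) [Field k] (b : Prop) :=
  ObjectProperty.FullSubcategory (IsAlg (k := k) b)

variable {A B : Alg k b}

/-- The underlying morphism. -/
abbrev uhom (f : A ⟶ B) : A.obj.X ⟶ B.obj.X := und f.hom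

/-- A morphism from a homomorphism. -/
def mkHom (f : A.obj.X ⟶ B.obj.X) [IsMonHom f] : A ⟶ B := ObjectProperty.homMk (ofHom f)

theorem hom_ext' {f g : A ⟶ B} (h : uhom f = uhom g) : f = g :=
  ObjectProperty.hom_ext _ (CommGrp.hom_ext _ _ h)

@[simp] theorem uhom_mkHom (f : A.obj.X ⟶ B.obj.X) [IsMonHom f] : uhom (mkHom f) = f := rfl

theorem uhom_comp {C : Alg k b} (f : A ⟶ B) (g : B ⟶ C) : uhom (f ≫ g) = uhom f ≫ uhom g := rfl

theorem uhom_zero : uhom (0 : A ⟶ B) = 1 := rfl

theorem isClosedImmersion_one (G : Over (Spec (CommRingCat.of k))) [GrpObj G] : IsClosedImmersion η[G].left := by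
  haveI : IsSeparated G.hom := AbRigid.isSeparated_of_grpObj G
  haveI : IsClosedImmersion (η[G].left ≫ G.hom) := by
    rw [Over.w η[G]]; exact (inferInstance : IsClosedImmersion (𝟙 (Spec (CommRingCat.of k))))
  exact IsClosedImmersion.of_comp η[G].left G.hom

theorem exists_kernel (f : A ⟶ B) :
    ∃ (K : Alg k b) (i : K ⟶ A), IsClosedImmersion (uhom i).left ∧ AlgGrp.IsKernel (uhom i) (uhom f) := by
  let i : pullback (uhom f) η[B.obj.X] ⟶ A.obj.X := pullback.fst (uhom f) η[B.obj.X]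
  have sq : IsPullback i (toUnit _) (uhom f) η[B.obj.X] := by
    convert IsPullback.of_hasPullback (uhom f) η[B.obj.X] using 1
    exact toUnit_unique _ _
  obtain ⟨_, hi⟩ := GrpDim20.exists_grpObj_kernel (uhom f) i sq
  haveI := isClosedImmersion_one B.obj.X
  haveI : IsClosedImmersion i.left :=
    MorphismProperty.of_isPullback (P := @IsClosedImmersion) (sq.map (Over.forget _)).flip
      (inferInstance : IsClosedImmersion η[B.obj.X].left)
  haveI : Mono i.left := inferInstance
  haveI : Mono i := Over.mono_of_mono_left i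
  haveI := isCommMonObj_of_mono i
  have hp : IsAlg (k := k) b (CommGrp.mk (pullback (uhom f) η[B.obj.X])) := by
    haveI := A.property.1
    haveI := A.property.2.1
    refine ⟨?_, ?_, fun hb => ?_⟩
    · show LocallyOfFiniteType (pullback (uhom f) η[B.obj.X]).hom
      rw [← Over.w i]; infer_instance
    · show QuasiCompact (pullback (uhom f) η[B.obj.X]).hom
      rw [← Over.w i]; infer_instance
    · haveI := A.property.2.2 hb
      haveI : IsAffineHom i.left := inferInstance
      exact isAffine_of_isAffineHom i.left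
  exact ⟨⟨_, hp⟩, mkHom (A := ⟨_, hp⟩) i, ‹IsClosedImmersion i.left›, sq⟩

theorem exists_quot {K : Alg k b} (i : K ⟶ A) (hi : IsClosedImmersion (uhom i).left) :
    ∃ (Q : Alg k b) (q : A ⟶ Q), IsFppf (uhom q) ∧ AlgGrp.IsKernel (uhom i) (uhom q) ∧
      IsPullback (QuotFlat20.leftAction (uhom i)).act (snd K.obj.X A.obj.X) (uhom q) (uhom q) := by
  haveI := A.property.1
  haveI := A.property.2.1
  haveI := K.property.1
  haveI := flat_hom K.obj.X
  haveI : Mono (uhom i).left := inferInstance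
  haveI : Mono (uhom i) := Over.mono_of_mono_left _
  by_cases hb : b
  · haveI := A.property.2.2 hb
    obtain ⟨X, iX, p, hm, hXaff, hlft, hfl, hsurj, hk⟩ :=
      Groth.Agent.S3278.result k A.obj.X K.obj.X (uhom i) (isNormalHom_of_comm (uhom i))
    haveI := hm; haveI := hlft; haveI := hXaff; haveI := hfl; haveI := hsurj
    haveI : LocallyOfFiniteType p.left := AlgGrpBasic19.lft_left p
    haveI : IsLocallyNoetherian X.left := LocallyOfFiniteType.isLocallyNoetherian X.hom
    have hp : IsFppf p := ⟨hsurj, hfl, LocallyOfFinitePresentation.iff_locallyOfFiniteType.2 inferInstance⟩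
    have hker : ∀ {Z : Over (Spec (CommRingCat.of k))} (z z' : Z ⟶ A.obj.X),
        z ≫ p = z' ≫ p ↔ ∃ f : Z ⟶ K.obj.X, (f ≫ uhom i) * z = z' := by
      intro Z z z'
      constructor
      · intro h
        refine ⟨hk.lift (z' * z⁻¹) (toUnit _) (by
          rw [MonObj.mul_comp, GrpObj.inv_comp, h, mul_inv_cancel, ← Hom.one_def]), ?_⟩
        rw [hk.lift_fst, inv_mul_cancel_right]
      · rintro ⟨f, rfl⟩
        rw [MonObj.mul_comp, Category.assoc, hk.w, ← Category.assoc, toUnit_unique (f ≫ toUnit _) (toUnit _),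
          ← Hom.one_def, _root_.one_mul]
    have hpb := isPullback_of_kernel (uhom i) hker
    haveI := isCommMonObj_of_epi p hp
    have hX : IsAlg (k := k) b (CommGrp.mk X) := ⟨hlft, (quasiCompact_iff_compactSpace _).2 inferInstance, fun _ => hXaff⟩
    exact ⟨⟨_, hX⟩, mkHom (B := ⟨_, hX⟩) p, hp, hk, hpb⟩
  obtain ⟨X, p, hp, hpb, -, hlft, -, hqc, -⟩ := exists_quotient_artinian (uhom i) hi
  obtain ⟨iX, hm, hk⟩ := exists_grpObj_quotient (uhom i) hp hpb (isNormalHom_of_comm (uhom i))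
  haveI := hm
  haveI := isCommMonObj_of_epi p hp
  have hX : IsAlg (k := k) b (CommGrp.mk X) := ⟨hlft, hqc ‹_›, fun h => absurd h hb⟩
  exact ⟨⟨_, hX⟩, mkHom (B := ⟨_, hX⟩) p, hp, hk, hpb⟩

theorem exists_desc_quot {K Q C : Alg k b} {i : K ⟶ A} {q : A ⟶ Q} (hq : IsFppf (uhom q))
    (hpb : IsPullback (QuotFlat20.leftAction (uhom i)).act (snd K.obj.X A.obj.X) (uhom q) (uhom q))
    (g : A ⟶ C) (hg : i ≫ g = 0) : ∃ l : Q ⟶ C, q ≫ l = g := by
  obtain ⟨l, hl⟩ := hq.exists_desc (uhom g) fun {Z} a b h => by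
    obtain ⟨f, rfl⟩ := (quotient_kernel (uhom i) hpb a b).1 h
    rw [MonObj.mul_comp, Category.assoc, ← uhom_comp, hg, uhom_zero, MonObj.comp_one, _root_.one_mul]
  haveI := hq.epi
  haveI := ((hq.whiskerRight A.obj.X).comp (.of_isPullback_left (isPullback_whiskerLeft_left Q.obj.X (uhom q)) hq)).epi
  have e : (uhom q ▷ A.obj.X) ≫ (Q.obj.X ◁ uhom q) = (uhom q ⊗ₘ uhom q) := (MonoidalCategory.tensorHom_def _ _).symm
  haveI : IsMonHom l := by
    refine ⟨?_, ?_⟩
    · rw [← IsMonHom.one_hom (uhom q), Category.assoc, hl, IsMonHom.one_hom]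
    · rw [← cancel_epi ((uhom q ▷ A.obj.X) ≫ (Q.obj.X ◁ uhom q)), e, ← Category.assoc, ← IsMonHom.mul_hom,
        Category.assoc, hl, ← Category.assoc, tensorHom_comp_tensorHom, hl, IsMonHom.mul_hom]
  exact ⟨mkHom l, hom_ext' (by rw [uhom_comp, uhom_mkHom, hl])⟩

theorem exists_lift_kernel {K C : Alg k b} {i : K ⟶ A} {f : A ⟶ B} (hi : AlgGrp.IsKernel (uhom i) (uhom f))
    (g : C ⟶ A) (hg : g ≫ f = 0) : ∃ l : C ⟶ K, l ≫ i = g := by
  let l := hi.lift (uhom g) (toUnit _) (by rw [← uhom_comp, hg, uhom_zero, ← Hom.one_def])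
  have hl : l ≫ uhom i = uhom g := hi.lift_fst _ _ _
  haveI : IsMonHom l := by
    refine ⟨hi.hom_ext ?_ (toUnit_unique _ _), hi.hom_ext ?_ (toUnit_unique _ _)⟩
    · rw [Category.assoc, hl, IsMonHom.one_hom, IsMonHom.one_hom]
    · rw [Category.assoc, hl, IsMonHom.mul_hom, Category.assoc, IsMonHom.mul_hom, ← Category.assoc,
        tensorHom_comp_tensorHom, hl]
  exact ⟨mkHom l, hom_ext' (by rw [uhom_comp, uhom_mkHom, hl])⟩

theorem mono_of_kernel {K : Alg k b} {i : K ⟶ A} {f : A ⟶ B} (hi : AlgGrp.IsKernel (uhom i) (uhom f)) : Mono i :=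
  ⟨fun a b h => hom_ext' (hi.hom_ext (congrArg uhom h) (toUnit_unique _ _))⟩

theorem kernel_comp {K : Alg k b} {i : K ⟶ A} {f : A ⟶ B} (hi : AlgGrp.IsKernel (uhom i) (uhom f)) : i ≫ f = 0 :=
  hom_ext' (by rw [uhom_comp, hi.w, uhom_zero, ← Hom.one_def])

theorem epi_of_quot {Q : Alg k b} {q : A ⟶ Q} (hq : IsFppf (uhom q)) : Epi q :=
  haveI := hq.epi
  ⟨fun a b h => hom_ext' ((cancel_epi (uhom q)).1 (congrArg uhom h))⟩

/-- The universal property of a kernel. -/
def isLimitKernel {K : Alg k b} {i : K ⟶ A} {f : A ⟶ B} (hi : AlgGrp.IsKernel (uhom i) (uhom f)) :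
    IsLimit (KernelFork.ofι i (kernel_comp hi)) :=
  haveI := mono_of_kernel hi
  KernelFork.IsLimit.ofι _ _ (fun g hg => (exists_lift_kernel hi g hg).choose)
    (fun g hg => (exists_lift_kernel hi g hg).choose_spec)
    fun g hg m hm => (cancel_mono i).1 (hm.trans (exists_lift_kernel hi g hg).choose_spec.symm)

/-- The universal property of a quotient. -/
def isColimitQuot {K Q : Alg k b} {i : K ⟶ A} {q : A ⟶ Q} (hq : IsFppf (uhom q))
    (hk : AlgGrp.IsKernel (uhom i) (uhom q))
    (hpb : IsPullback (QuotFlat20.leftAction (uhom i)).act (snd K.obj.X A.obj.X) (uhom q) (uhom q)) :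
    IsColimit (CokernelCofork.ofπ q (kernel_comp hk)) :=
  haveI := epi_of_quot hq
  CokernelCofork.IsColimit.ofπ _ _ (fun g hg => (exists_desc_quot hq hpb g hg).choose)
    (fun g hg => (exists_desc_quot hq hpb g hg).choose_spec)
    fun g hg m hm => (cancel_epi q).1 (hm.trans (exists_desc_quot hq hpb g hg).choose_spec.symm)

theorem isClosedImmersion_image {K I : Alg k b} {i : K ⟶ A} {f : A ⟶ B} {q : A ⟶ I}
    (hi : AlgGrp.IsKernel (uhom i) (uhom f)) (hq : IsFppf (uhom q))
    (hpb : IsPullback (QuotFlat20.leftAction (uhom i)).act (snd K.obj.X A.obj.X) (uhom q) (uhom q))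
    (m : I ⟶ B) (hm : q ≫ m = f) : IsClosedImmersion (uhom m).left := by
  haveI := I.property.1
  haveI := I.property.2.1
  haveI := B.property.1
  haveI := B.property.2.1
  haveI : Mono (uhom m) := by
    refine ⟨fun {Z} a b h => ?_⟩
    -- cover `Z` by lifts of both points
    have hcov : ∀ {Z : Over (Spec (CommRingCat.of k))} (z : Z ⟶ I.obj.X),
        ∃ (Z' : Over (Spec (CommRingCat.of k))) (h : Z' ⟶ Z) (w : Z' ⟶ A.obj.X), IsFppf h ∧ w ≫ uhom q = h ≫ z :=
      fun {Z} z => ⟨pullback z (uhom q), pullback.fst _ _, pullback.snd _ _,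
        IsFppf.of_isPullback_left ((IsPullback.of_hasPullback z (uhom q)).map (Over.forget _)) hq,
        pullback.condition.symm⟩
    obtain ⟨Z₁, h₁, w₁, hh₁, hw₁⟩ := hcov a
    obtain ⟨Z₂, h₂, w₂, hh₂, hw₂⟩ := hcov (h₁ ≫ b)
    haveI := (hh₂.comp hh₁).epi
    rw [← cancel_epi (h₂ ≫ h₁), Category.assoc, Category.assoc, ← hw₂, ← hw₁, ← Category.assoc h₂]
    have e : (h₂ ≫ w₁) ≫ uhom f = w₂ ≫ uhom f := by
      rw [← hm, uhom_comp, ← Category.assoc, ← Category.assoc w₂, Category.assoc h₂, hw₁, hw₂]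
      simp only [Category.assoc, h]
    let d := hi.lift (w₂ * (h₂ ≫ w₁)⁻¹) (toUnit _) (by
      rw [MonObj.mul_comp, GrpObj.inv_comp, e, mul_inv_cancel, ← Hom.one_def])
    refine (quotient_kernel (uhom i) hpb _ _).2 ⟨d, ?_⟩
    rw [hi.lift_fst, inv_mul_cancel_right]
  haveI : QuasiCompact (uhom m).left := AlgGrpBasic19.quasiCompact_left (uhom m)
  exact Groth.Agent.S3036.result k I.obj.X B.obj.X (uhom m)

theorem nonempty_abelianStruct (f : A ⟶ B) : Nonempty (Abelian.AbelianStruct f) := by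
  obtain ⟨K, i, hic, hi⟩ := exists_kernel f
  obtain ⟨I, q, hq, hqk, hqpb⟩ := exists_quot i hic
  obtain ⟨m, hm⟩ := exists_desc_quot hq hqpb f (kernel_comp hi)
  have hmc := isClosedImmersion_image hi hq hqpb m hm
  obtain ⟨C, π, hπ, hπk, hπpb⟩ := exists_quot m hmc
  have hfπ : f ≫ π = 0 := by rw [← hm, Category.assoc, kernel_comp hπk, comp_zero]
  haveI := epi_of_quot hπ
  haveI := epi_of_quot hq
  have hcok : ∀ {Z : Alg k b} (g : B ⟶ Z), f ≫ g = 0 → m ≫ g = 0 := fun g hg => by
    rw [← cancel_epi q, ← Category.assoc, hm, hg, comp_zero]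
  exact ⟨{
    kernelFork := KernelFork.ofι i (kernel_comp hi)
    isLimitKernelFork := isLimitKernel hi
    cokernelCofork := CokernelCofork.ofπ π hfπ
    isColimitCokernelCofork := CokernelCofork.IsColimit.ofπ _ _
      (fun g hg => (exists_desc_quot hπ hπpb g (hcok g hg)).choose)
      (fun g hg => (exists_desc_quot hπ hπpb g (hcok g hg)).choose_spec)
      fun g hg l hl => (cancel_epi π).1 (hl.trans (exists_desc_quot hπ hπpb g (hcok g hg)).choose_spec.symm)
    image := I
    imageπ := q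
    ι_imageπ := kernel_comp hqk
    imageIsCokernel := isColimitQuot hq hqk hqpb
    imageι := m
    imageι_π := kernel_comp hπk
    imageIsKernel := isLimitKernel hπk
    fac := hm }⟩

theorem isAlg_trivial : IsAlg (k := k) b (CommGrp.trivial _) := by
  show LocallyOfFiniteType (𝟙 (Spec (CommRingCat.of k))) ∧ QuasiCompact (𝟙 (Spec (CommRingCat.of k))) ∧
    (b → IsAffine (Spec (CommRingCat.of k)))
  exact ⟨inferInstance, inferInstance, fun _ => inferInstance⟩

instance : HasTerminal (Alg k b) := by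
  haveI : ∀ Y : Alg k b, Unique (Y ⟶ (⟨_, isAlg_trivial⟩ : Alg k b)) := fun Y =>
    { default := 0
      uniq := fun f => hom_ext' (toUnit_unique _ _) }
  exact hasTerminal_of_unique ⟨_, isAlg_trivial⟩

theorem exists_product (X Y : Alg k b) : ∃ (P : Alg k b) (p₁ : P ⟶ X) (p₂ : P ⟶ Y),
    ∀ {T : Alg k b} (a : T ⟶ X) (b : T ⟶ Y), ∃! l : T ⟶ P, l ≫ p₁ = a ∧ l ≫ p₂ = b := by
  haveI := X.property.1; haveI := X.property.2.1
  haveI := Y.property.1; haveI := Y.property.2.1
  let G : Grp (Over (Spec (CommRingCat.of k))) := X.obj.toGrp ⊗ Y.obj.toGrp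
  letI : GrpObj (X.obj.X ⊗ Y.obj.X) := G.grp
  have hP : IsAlg (k := k) b (CommGrp.mk (X.obj.X ⊗ Y.obj.X)) := by
    show LocallyOfFiniteType (pullback.fst X.obj.X.hom Y.obj.X.hom ≫ X.obj.X.hom) ∧
      QuasiCompact (pullback.fst X.obj.X.hom Y.obj.X.hom ≫ X.obj.X.hom) ∧
      (b → IsAffine (pullback X.obj.X.hom Y.obj.X.hom))
    refine ⟨inferInstance, inferInstance, fun hb => ?_⟩
    haveI := X.property.2.2 hb; haveI := Y.property.2.2 hb
    infer_instance
  refine ⟨⟨_, hP⟩, mkHom (A := ⟨_, hP⟩) (fst X.obj.X Y.obj.X), mkHom (A := ⟨_, hP⟩) (snd X.obj.X Y.obj.X),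
    fun {T} a b => ?_⟩
  haveI : IsMonHom (lift (uhom a) (uhom b)) := inferInstance
  refine ⟨mkHom (B := ⟨_, hP⟩) (lift (uhom a) (uhom b)), ⟨hom_ext' ?_, hom_ext' ?_⟩, fun l hl => hom_ext' ?_⟩
  · rw [uhom_comp, uhom_mkHom, uhom_mkHom, lift_fst]
  · rw [uhom_comp, uhom_mkHom, uhom_mkHom, lift_snd]
  · apply CartesianMonoidalCategory.hom_ext
    · rw [uhom_mkHom, lift_fst, ← hl.1]; rfl
    · rw [uhom_mkHom, lift_snd, ← hl.2]; rfl

instance hasBinaryProducts : HasBinaryProducts (Alg k b) := by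
  haveI : ∀ {X Y : Alg k b}, HasLimit (pair X Y) := fun {X Y} => by
    obtain ⟨P, p₁, p₂, h⟩ := exists_product X Y
    exact ⟨⟨_, BinaryFan.IsLimit.mk (BinaryFan.mk p₁ p₂) (fun a b => (h a b).choose)
      (fun a b => (h a b).choose_spec.1.1) (fun a b => (h a b).choose_spec.1.2)
      fun a b m h1 h2 => (h a b).choose_spec.2 m ⟨h1, h2⟩⟩⟩
  exact hasBinaryProducts_of_hasLimit_pair _

/-- Commutative algebraic groups over a field form an abelian category. -/
theorem nonempty_abelian : Nonempty (Abelian (Alg k b)) := by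
  haveI : HasFiniteProducts (Alg k b) := hasFiniteProducts_of_has_binary_and_terminal
  exact ⟨Abelian.mk' fun _ _ f => nonempty_abelianStruct f⟩

end Groth.Agent.AbelGrp20
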