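import Mathlib.CategoryTheory.Monoidal.CommGrp_
import Mathlib.CategoryTheory.Monoidal.Cartesian.Grp
import Mathlib.CategoryTheory.Preadditive.Basic
import Mathlib.Algebra.Group.TransferInstance

/-!
# Commutative group objects form a preadditive category
-/

universe v u

set_option autoImplicit false
set_option backward.isDefEq.respectTransparency.types false

open CategoryTheory MonoidalCategory CartesianMonoidalCategory MonObj

noncomputable section

namespace Groth.Agent.AbelGrp20

variable {C : Type u} [Category.{v} C] [CartesianMonoidalCategory C] [BraidedCategory C]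

/-- The underlying morphism. -/
abbrev und {A B : CommGrp C} (f : A ⟶ B) : A.X ⟶ B.X := f.hom.hom.hom

/-- A morphism of commutative groups from a homomorphism. -/
def ofHom {A B : CommGrp C} (f : A.X ⟶ B.X) [IsMonHom f] : A ⟶ B :=
  InducedCategory.homMk (Grp.homMk' { hom := f })

@[simp] theorem und_ofHom {A B : CommGrp C} (f : A.X ⟶ B.X) [IsMonHom f] : und (ofHom f) = f := rfl

instance isMonHom_und {A B : CommGrp C} (f : A ⟶ B) : IsMonHom (und f) := f.hom.hom.isMonHom_hom

instance (A B : CommGrp C) : AddCommGroup (A ⟶ B) :=
  letI : CommGroup (A.toGrp ⟶ B.toGrp) := Hom.commGroup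
  Equiv.addCommGroup ((show (A ⟶ B) ≃ (A.toGrp ⟶ B.toGrp) from InducedCategory.homEquiv).trans Additive.ofMul)

theorem und_add {A B : CommGrp C} (f g : A ⟶ B) : und (f + g) = und f * und g := rfl

theorem und_zero {A B : CommGrp C} : und (0 : A ⟶ B) = 1 := rfl

instance preadditive : Preadditive (CommGrp C) where
  add_comp _ _ _ f f' g := by
    apply CommGrp.hom_ext
    show und (f + f') ≫ und g = und (f ≫ g + f' ≫ g)
    rw [und_add, und_add, MonObj.mul_comp]
    rfl
  comp_add _ _ _ f g g' := by
    apply CommGrp.hom_ext
    show und f ≫ und (g + g') = und (f ≫ g + f ≫ g')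
    rw [und_add, und_add, MonObj.comp_mul]
    rfl

end Groth.Agent.AbelGrp20
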